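import Cfsg.Agent.H271.PU.RowB
import Cfsg.Agent.H44.CJ3
import Cfsg.Agent.KFacts.J4.Base
import Cfsg.Agent.J4Type.Rho
import Cfsg.Agent.LargeExtra.Perp

/-!
# S3046, case B: the rows `J₃` and `J₄` at `p = 2` (helper538)
-/

set_option autoImplicit false

namespace Cfsg.Agent.H538.PU

open Subgroup Cfsg Cfsg.Agent.H271.PU Cfsg.Agent.Co2Type.Quad
open scoped commutatorElement
open Cfsg.Agent.J4Type Cfsg.Agent.J2Type.Model Cfsg.Agent.J2Type.CStruct Cfsg.Agent.J3Type.OneClass

/-- `C_G(z)` has a large extraspecial subgroup and no elementary abelian normal subgroups of order 8 containing `z` -/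
theorem rowB_of_large {G : Type*} [Group G] [Finite G] {Q : Subgroup G} {z : G} (h : Large Q z) (hQ : IsPGroup 2 ↥Q)
    (key : ∀ A : Subgroup G, IsElementaryAbelian 2 A → z ∈ A → A ≤ centralizer ({z} : Set G) →
      centralizer ({z} : Set G) ≤ normalizer (A : Set G) → Nat.card A < 2 ^ 3) : RowB 2 G := by
  have : Fact (Nat.Prime 2) := ⟨Nat.prime_two⟩
  obtain ⟨T, hT⟩ := hQ.exists_le_sylow
  refine rowB_of_center (T := T) (z₀ := z) ?_ ?_ ?_
  · intro y hy hyc _
    have hyz : y * z = z * y := (hyc z (hT h.z_mem)).symm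
    have h1 : y ∈ Q := h.self y hyz fun x hx => (hyc x (hT hx)).symm
    rcases h.cent y h1 fun x hx => (hyc x (hT hx)).symm with h2 | h2
    · rw [h2]
      exact one_mem _
    · rw [h2]
      exact mem_zpowers z
  · exact orderOf_eq_prime (by rw [pow_two]; exact h.z_sq) h.z_ne
  · intro A hA hz hAc hN hcard
    exact absurd hcard (not_le_of_gt (key A hA hz hAc hN))

/-- the image of a normal `2`-subgroup of `C` under a homomorphism onto a nonabelian simple group is trivial -/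
theorem map_eq_bot {C S : Type*} [Group C] [Group S] [Finite S] [IsSimpleGroup S] {f : C →* S} (hf : Function.Surjective f)
    {q : ℕ} (hq : q.Prime) (hq2 : q ≠ 2) (hqS : q ∣ Nat.card S) {A : Subgroup C} [hA : A.Normal] (hA2 : IsPGroup 2 ↥A) :
    A.map f = ⊥ := by
  have hn : (A.map f).Normal := hA.map f hf
  rcases hn.eq_bot_or_eq_top with h | h
  · exact h
  · exfalso
    have h2 : IsPGroup 2 ↥(A.map f) := hA2.map f
    have : Fact (Nat.Prime 2) := ⟨Nat.prime_two⟩
    obtain ⟨n, hn⟩ := IsPGroup.iff_card.1 h2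
    rw [h, Subgroup.card_top] at hn
    rw [hn] at hqS
    exact hq2 ((Nat.prime_dvd_prime_iff_eq hq Nat.prime_two).1 (hq.dvd_of_dvd_pow hqS))

/-- `A` as a normal `2`-subgroup of `C(z)` -/
theorem normal_sub {G : Type*} [Group G] {z : G} {A : Subgroup G} (hN : centralizer ({z} : Set G) ≤ normalizer (A : Set G)) :
    (A.subgroupOf (centralizer ({z} : Set G))).Normal := by
  refine ⟨fun a ha c => ?_⟩
  rw [mem_subgroupOf] at ha ⊢
  exact (mem_normalizer_iff.1 (hN c.2) a).1 ha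

theorem pgroup_sub {G : Type*} [Group G] {z : G} {A : Subgroup G} (hA : IsElementaryAbelian 2 A) :
    IsPGroup 2 ↥(A.subgroupOf (centralizer ({z} : Set G))) := by
  intro a
  refine ⟨1, Subtype.ext (Subtype.ext ?_)⟩
  rw [pow_one]
  exact hA.2 _ (mem_subgroupOf.1 a.2)

universe u

/-- **`J₃`** -/
theorem rowB_j3 {K : Type u} [Group K] [Finite K] (h : Spor.IsoJ3 K) : RowB 2 K := by
  obtain ⟨-, z, Q, v, ρ, n, u, F⟩ := KFacts.J3.exists_facts h
  have M := F.model
  have hn := H72.ModelFacts.normal_Q M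
  have hz2 : z * z = 1 := congrArg Subtype.val M.z_sq
  have hz1 : z ≠ 1 := fun e => M.z_ne (Subtype.ext e)
  have hz : orderOf z = 2 := orderOf_eq_prime (by rw [pow_two]; exact hz2) hz1
  have hL := Held.Ext.large_of_hyp z hz Q (H72.ModelFacts.isExtraspecial M) (Cfsg.Agent.H44.CJ3.cent_le M)
  refine rowB_of_large hL (Cfsg.Agent.LargeExtra.Base.isPGroup hL) fun A hA hzA hAc hN => ?_
  have hAn := normal_sub hN
  have hA2 := pgroup_sub (z := z) hA
  have h5 : 4 < Fintype.card (Fin 5) := by decide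
  have hsimp : IsSimpleGroup (alternatingGroup (Fin 5)) := alternatingGroup.isSimpleGroup (by rw [Nat.card_eq_fintype_card, Fintype.card_fin])
  have h1 := map_eq_bot (H72.ModelFacts.proj_surj M) Nat.prime_five (by norm_num) (by
    rw [nat_card_alternatingGroup, Nat.card_eq_fintype_card, Fintype.card_fin]
    decide) hA2
  rw [Subgroup.map_eq_bot_iff, H72.ModelFacts.proj_ker M] at h1
  -- `A` as a subgroup of `Q`
  have h2 := H72.ModelFacts.card_le_four M ((A.subgroupOf (centralizer ({z} : Set K))).subgroupOf Q) ⟨⟨⟨?_⟩⟩, ?_⟩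
  · rw [Nat.card_congr (subgroupOfEquivOfLe h1).toEquiv, Nat.card_congr (subgroupOfEquivOfLe hAc).toEquiv] at h2
    omega
  · rintro ⟨a, ha⟩ ⟨b, hb⟩
    have h3 := congrArg Subtype.val
      (hA.1.is_comm.comm ⟨_, mem_subgroupOf.1 (mem_subgroupOf.1 ha)⟩ ⟨_, mem_subgroupOf.1 (mem_subgroupOf.1 hb)⟩)
    exact Subtype.ext (Subtype.ext (Subtype.ext h3))
  · intro a ha
    apply Subtype.ext
    apply Subtype.ext
    exact hA.2 _ (mem_subgroupOf.1 (mem_subgroupOf.1 ha))

/-- an automorphism of prime order `r` fixes every vector of a small invariant subspace -/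
theorem fix_small {V : Type*} [AddCommGroup V] [Module (ZMod 2) V] [Finite V] {r : ℕ} (hr : r.Prime) (hr2 : r ≠ 2)
    {F : V ≃ₗ[ZMod 2] V} (hF : F ^ r = 1) {U : Submodule (ZMod 2) V} (hU : ∀ v ∈ U, F v ∈ U) {n : ℕ}
    (hcard : Nat.card U ≤ 2 ^ n) (hn : ∀ k, 1 ≤ k → k ≤ n → ¬ r ∣ 2 ^ k - 1) : ∀ v ∈ U, F v = v := by
  have : Fact r.Prime := ⟨hr⟩
  have hUpow : ∀ (k : ℕ) (v : V), v ∈ U → (F ^ k) v ∈ U := by
    intro k
    induction k with
    | zero => intro v hv; rw [pow_zero]; exact hv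
    | succ k ih => intro v hv; rw [pow_succ]; exact ih _ (hU v hv)
  -- the cyclic group acts on `U`
  let C : Subgroup (V ≃ₗ[ZMod 2] V) := zpowers F
  have hC : IsPGroup r ↥C := by
    have h1 : Nat.card C ∣ r := by
      rw [Nat.card_zpowers]
      exact orderOf_dvd_of_pow_eq_one hF
    rcases (Nat.dvd_prime hr).1 h1 with h | h
    · exact IsPGroup.of_card (n := 0) (by rw [h, pow_zero])
    · exact IsPGroup.of_card (n := 1) (by rw [h, pow_one])
  have hCU : ∀ g ∈ C, ∀ v ∈ U, g v ∈ U := by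
    intro g hg v hv
    have hfin : IsOfFinOrder F := isOfFinOrder_iff_pow_eq_one.2 ⟨r, hr.pos, hF⟩
    obtain ⟨k, hk⟩ := (Submonoid.mem_powers_iff _ _).1 (hfin.mem_powers_iff_mem_zpowers.2 hg)
    rw [← hk]
    exact hUpow k v hv
  let act : MulAction ↥C ↥U :=
    { smul := fun g v => ⟨(g : V ≃ₗ[ZMod 2] V) v, hCU g g.2 v v.2⟩
      one_smul := fun v => Subtype.ext rfl
      mul_smul := fun a b v => Subtype.ext rfl }
  have hmod := hC.card_modEq_card_fixedPoints ↥U
  -- the fixed points form a submodule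
  let W : Submodule (ZMod 2) V := U ⊓ LinearMap.ker ((F : V →ₗ[ZMod 2] V) - LinearMap.id)
  have hW : ∀ v, v ∈ W ↔ v ∈ U ∧ F v = v := by
    intro v
    change v ∈ U ∧ _ ↔ _
    rw [SetLike.mem_coe, LinearMap.mem_ker, LinearMap.sub_apply, sub_eq_zero]
    rfl
  have hWc : Nat.card (MulAction.fixedPoints ↥C ↥U) = Nat.card W := by
    refine Nat.card_congr ⟨fun v => ⟨(v : ↥U), (hW _).2 ⟨(v : ↥U).2, ?_⟩⟩, fun v => ⟨⟨v, ((hW _).1 v.2).1⟩, ?_⟩,
      fun v => rfl, fun v => rfl⟩
    · exact congrArg Subtype.val (v.2 ⟨F, mem_zpowers F⟩)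
    · rintro ⟨g, hg⟩
      apply Subtype.ext
      change g (v : V) = v
      have h1 : zpowers F ≤ MulAction.stabilizer (V ≃ₗ[ZMod 2] V) (v : V) := by
        rw [zpowers_le]
        exact ((hW _).1 v.2).2
      exact h1 hg
  rw [hWc] at hmod
  have h2 : ∀ X : Submodule (ZMod 2) V, ∃ a, Nat.card X = 2 ^ a := by
    intro X
    refine ⟨Module.finrank (ZMod 2) X, ?_⟩
    rw [Module.natCard_eq_pow_finrank (K := ZMod 2), Nat.card_zmod]
  obtain ⟨a, ha⟩ := h2 U
  obtain ⟨b, hb⟩ := h2 W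
  have hWU : W ≤ U := inf_le_left
  have hle : Nat.card W ≤ Nat.card U := Nat.card_le_card_of_injective _ (Submodule.inclusion_injective hWU)
  have hba : b ≤ a := by
    rw [ha, hb] at hle
    exact (Nat.pow_le_pow_iff_right (by norm_num)).1 hle
  have han : a ≤ n := by
    rw [ha] at hcard
    exact (Nat.pow_le_pow_iff_right (by norm_num)).1 hcard
  have hab : a = b := by
    by_contra hne
    have h3 := (Nat.modEq_iff_dvd' hle).1 hmod.symm
    rw [ha, hb] at h3
    obtain ⟨k, rfl⟩ := Nat.exists_eq_add_of_le hba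
    rw [pow_add, show 2 ^ b * 2 ^ k - 2 ^ b = 2 ^ b * (2 ^ k - 1) by rw [Nat.mul_sub, mul_one]] at h3
    rcases hr.dvd_mul.1 h3 with h4 | h4
    · exact hr2 ((Nat.prime_dvd_prime_iff_eq hr Nat.prime_two).1 (hr.dvd_of_dvd_pow h4))
    · exact hn k (by omega) (by omega) h4
  intro v hv
  have hWU' : W = U := by
    apply SetLike.coe_injective
    refine Set.eq_of_subset_of_ncard_le hWU ?_
    rw [← Nat.card_coe_set_eq, ← Nat.card_coe_set_eq]
    change Nat.card U ≤ Nat.card W
    rw [ha, hb, hab]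
  have h3 : v ∈ W := by rw [hWU']; exact hv
  exact ((hW v).1 h3).2

section kerOn

variable {G : Type*} [Group G] {Q : Subgroup G} {z : G} (h : Large Q z) (U : Submodule (ZMod 2) h.V)
  (hinv : ∀ c : centralizer ({z} : Set G), ∀ v ∈ U, h.act c v ∈ U)

theorem act_act_inv (c : centralizer ({z} : Set G)) (v : h.V) : h.act c (h.act c⁻¹ v) = v := by
  rw [← LinearEquiv.mul_apply, ← map_mul, mul_inv_cancel, map_one]
  rfl

theorem act_inv_act (c : centralizer ({z} : Set G)) (v : h.V) : h.act c⁻¹ (h.act c v) = v := by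
  rw [← LinearEquiv.mul_apply, ← map_mul, inv_mul_cancel, map_one]
  rfl

/-- the elements acting trivially on an invariant subspace -/
def kerOn : Subgroup (centralizer ({z} : Set G)) where
  carrier := {c | ∀ v ∈ U, h.act c v = v}
  one_mem' := fun v _ => by rw [map_one]; rfl
  mul_mem' := fun {a b} ha hb v hv => by
    rw [map_mul, LinearEquiv.mul_apply, hb v hv, ha v hv]
  inv_mem' := fun {a} ha v hv => by
    conv_lhs => rw [← ha v hv]
    exact act_inv_act h a v

include hinv in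
theorem kerOn_normal : (kerOn h U).Normal := by
  refine ⟨fun a ha c v hv => ?_⟩
  rw [map_mul, map_mul, LinearEquiv.mul_apply, LinearEquiv.mul_apply, ha _ (hinv c⁻¹ v hv), act_act_inv]

end kerOn

theorem rowB_of_hyp {K : Type u} [Group K] [Finite K] {t : K} {Q N M : Subgroup (centralizer ({t} : Set K))}
    (H : Hyp t Q N M) : RowB 2 K := by
  have hL := H.large
  have hQn := H.Qn
  have hNn := H.Nn
  have hMn := H.Mn
  obtain ⟨r, hr, hrQ, hr3⟩ := H.exists_r
  refine rowB_of_large H.large (Cfsg.Agent.LargeExtra.Base.isPGroup H.large) fun A hA hzA hAc hN => ?_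
  have hAn := normal_sub hN
  have hA2 := pgroup_sub (z := t) hA
  obtain ⟨A', hA'⟩ : ∃ A', A' = A.subgroupOf (centralizer ({t} : Set K)) := ⟨_, rfl⟩
  rw [← hA'] at hAn hA2
  obtain ⟨π, hs, hker⟩ := H.pi
  have : IsSimpleGroup Cfsg.Spor.M22 := Cfsg.Agent.SporadicA.MathieuRecog.simple_M22
  have : Finite Cfsg.Spor.M22 := inferInstance
  have hAMn : (A'.subgroupOf M).Normal := inferInstance
  have h1 := map_eq_bot hs (q := 11) (by norm_num) (by norm_num)
    (by rw [Cfsg.Agent.SporadicA.MathieuRecog.card_M22]; norm_num) (A := A'.subgroupOf M)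
    (hA2.comap_of_injective _ (Subgroup.subtype_injective _))
  have hAMN : ∀ a ∈ A', a ∈ M → a ∈ N := by
    intro a ha haM
    refine (hker ⟨a, haM⟩).1 ?_
    have h2 : π ⟨a, haM⟩ ∈ (A'.subgroupOf M).map π := mem_map_of_mem _ (mem_subgroupOf.2 ha)
    rw [h1, mem_bot] at h2
    exact h2
  have hAM : ∀ a ∈ A', a ∈ M := by
    intro a ha
    refine H.out a fun m hm => ?_
    have h2 : a * (m * a⁻¹ * m⁻¹) ∈ A' := A'.mul_mem ha (hAn.conj_mem _ (A'.inv_mem ha) m)
    have h3 : a * m * a⁻¹ * m⁻¹ ∈ M := M.mul_mem (hMn.conj_mem m hm a) (M.inv_mem hm)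
    refine hAMN _ ?_ h3
    rw [show a * m * a⁻¹ * m⁻¹ = a * (m * a⁻¹ * m⁻¹) by group]
    exact h2
  have hAQ : A' ≤ Q := by
    intro a ha
    rw [← H.act_eq_one]
    have h2 : H.large.act a ^ 2 = 1 := by
      rw [← map_pow]
      have : a ^ 2 = 1 := Subtype.ext (hA.2 _ (by rw [hA'] at ha; exact mem_subgroupOf.1 ha))
      rw [this, map_one]
    have hρ3 : H.large.act r ^ 3 = 1 := by rw [← map_pow, hr3, map_one]
    have h3 : H.large.act a ^ 3 = 1 := by
      rcases H.act_N hr hrQ hr3 (hAMN a ha (hAM a ha)) with h | h | h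
      · rw [h, one_pow]
      · rw [h, hρ3]
      · rw [h, ← pow_mul, mul_comm, pow_mul, hρ3, one_pow]
    calc H.large.act a = H.large.act a ^ 3 * (H.large.act a ^ 2)⁻¹ := by group
      _ = 1 := by rw [h2, h3]; group
  -- the submodule
  obtain ⟨U, hU⟩ : ∃ U, U = Cfsg.Agent.LargeExtra.Local.sub H.large A := ⟨_, rfl⟩
  have hAQ' : A ≤ Q.map (centralizer ({t} : Set K)).subtype := by
    intro a ha
    refine ⟨⟨a, hAc ha⟩, hAQ ?_, rfl⟩
    rw [hA']
    exact mem_subgroupOf.2 ha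
  have hcomm : ∀ a ∈ A, ∀ b ∈ A, a * b = b * a := by
    intro a ha b hb
    exact congrArg Subtype.val (hA.1.is_comm.comm ⟨a, ha⟩ ⟨b, hb⟩)
  have hiso : Nat.card U * Nat.card U ≤ Nat.card H.large.V := by
    refine Cfsg.Agent.LargeExtra.Perp.card_sq_le H.large U ?_
    rw [hU]
    rintro _ ⟨x, hx, rfl⟩ _ ⟨y, hy, rfl⟩
    rw [H.large.b_pr]
    exact hcomm _ hx _ hy
  rw [H.card_V] at hiso
  have hUcard : Nat.card U ≤ 2 ^ 6 := by
    by_contra hcon
    push Not at hcon
    have := Nat.mul_lt_mul'' hcon hcon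
    norm_num at this hiso
    omega
  -- invariance
  have hinv : ∀ c : centralizer ({t} : Set K), ∀ v ∈ U, H.large.act c v ∈ U := by
    intro c v hv
    rw [hU] at hv ⊢
    obtain ⟨x, hx, rfl⟩ := hv
    rw [H.large.act_pr]
    exact ⟨_, (mem_normalizer_iff.1 (hN c.2) x).1 hx, rfl⟩
  -- the elements acting trivially
  obtain ⟨L, hLm⟩ : ∃ L, L = kerOn H.large U := ⟨_, rfl⟩
  have hLn : L.Normal := by rw [hLm]; exact kerOn_normal H.large U hinv
  have hLmem : ∀ {c}, c ∈ L ↔ ∀ v ∈ U, H.large.act c v = v := by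
    intro c
    rw [hLm]
    exact Iff.rfl
  have hQL : Q ≤ L := by
    intro q hq
    rw [hLmem]
    intro v _
    rw [H.act_eq_one.2 hq]
    rfl
  -- an element of order `11`
  have : Fact (Nat.Prime 11) := ⟨by norm_num⟩
  obtain ⟨g, hg⟩ := exists_prime_orderOf_dvd_card' (G := Cfsg.Spor.M22) 11
    (by rw [Cfsg.Agent.SporadicA.MathieuRecog.card_M22]; norm_num)
  obtain ⟨m, hm⟩ := hs g
  have hg11 : g ^ 11 = 1 := by rw [← hg]; exact pow_orderOf_eq_one g
  have hg3 : g ^ 3 ≠ 1 := by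
    intro h
    have := orderOf_dvd_of_pow_eq_one h
    rw [hg] at this
    omega
  have hmN : (m : centralizer ({t} : Set K)) ^ 11 ∈ N := (hker (m ^ 11)).1 (by rw [map_pow, hm, hg11])
  have hF : H.large.act ((m : centralizer ({t} : Set K)) ^ 3) ^ 11 = 1 := by
    rw [← map_pow, ← pow_mul, show 3 * 11 = 11 * 3 from rfl, pow_mul, map_pow]
    have hρ3 : H.large.act r ^ 3 = 1 := by rw [← map_pow, hr3, map_one]
    rcases H.act_N hr hrQ hr3 hmN with h | h | h
    · rw [h, one_pow]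
    · rw [h, hρ3]
    · rw [h, ← pow_mul, mul_comm, pow_mul, hρ3, one_pow]
  have hmL : (m : centralizer ({t} : Set K)) ^ 3 ∈ L := by
    rw [hLmem]
    refine fix_small (by norm_num) (by norm_num) hF (hinv _) hUcard ?_
    intro k hk1 hk2
    interval_cases k <;> norm_num
  -- `M ≤ L`
  have hLMn : (L.subgroupOf M).Normal := inferInstance
  have hcov := H.cover (L.subgroupOf M) π hs (k := m ^ 3) (mem_subgroupOf.2 hmL) (by rw [map_pow, hm]; exact hg3)
  have hdec : ∀ x ∈ M, ∃ l ∈ L, ∃ y ∈ N, x = l * y := by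
    intro x hx
    obtain ⟨k, hk, e⟩ := hcov ⟨x, hx⟩
    refine ⟨k, mem_subgroupOf.1 hk, (k : centralizer ({t} : Set K))⁻¹ * x, ?_, by group⟩
    refine (hker (k⁻¹ * ⟨x, hx⟩)).1 ?_
    rw [map_mul, map_inv, e, inv_mul_cancel]
  have hML : M ≤ L := by
    refine H.M_le L hQL fun x hx y hy => ?_
    obtain ⟨l, hl, a, ha, rfl⟩ := hdec x hx
    obtain ⟨l', hl', b, hb, rfl⟩ := hdec y hy
    -- modulo `L` everything commutes
    rw [← QuotientGroup.eq_one_iff (N := L), ← QuotientGroup.mk'_apply, map_commutatorElement, commutatorElement_eq_one_iff_mul_comm]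
    have e1 : QuotientGroup.mk' L (l * a) = QuotientGroup.mk' L a := by
      rw [map_mul, (QuotientGroup.eq_one_iff l).2 hl |> fun h => (show QuotientGroup.mk' L l = 1 from h), one_mul]
    have e2 : QuotientGroup.mk' L (l' * b) = QuotientGroup.mk' L b := by
      rw [map_mul, (show QuotientGroup.mk' L l' = 1 from (QuotientGroup.eq_one_iff l').2 hl'), one_mul]
    rw [e1, e2]
    have h5 : ⁅a, b⁆ ∈ L := hQL (H.cent (commutator_mem_commutator (H.NM ha) hb))
    rw [← commutatorElement_eq_one_iff_mul_comm, ← map_commutatorElement]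
    exact (QuotientGroup.eq_one_iff _).2 h5
  have hrL : r ∈ L := hML (H.NM hr)
  have hU0 : U = ⊥ := by
    rw [eq_bot_iff]
    intro v hv
    exact (Submodule.mem_bot _).2 (H.rho_free hr hrQ hr3 (hLmem.1 hrL v hv))
  have hcardA := Cfsg.Agent.LargeExtra.Local.card_sub H.large hzA
  rw [← hU, hU0, inf_eq_left.2 hAQ'] at hcardA
  rw [hcardA]
  have : Nat.card (⊥ : Submodule (ZMod 2) H.large.V) = 1 := Nat.card_unique
  rw [this]
  norm_num

/-- **`J₄`** -/
theorem rowB_j4 {K : Type u} [Group K] [Finite K] (h : Spor.IsoJ4 K) : RowB 2 K := by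
  obtain ⟨t, Q, N, M, H⟩ := Cfsg.Agent.KFacts.J4.Transport.exists_hyp_of_iso h
  exact rowB_of_hyp H

end Cfsg.Agent.H538.PU
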